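import Groth.Agent.Lib.Cartier.Smooth
import Mathlib.AlgebraicGeometry.Geometrically.Reduced
import Mathlib.RingTheory.KrullDimension.Zero
import Mathlib.RingTheory.LocalProperties.Reduced

/-!
# Reduced group schemes over a perfect field are smooth
-/

universe u

set_option backward.isDefEq.respectTransparency false
set_option linter.style.haveILetI false

open CategoryTheory Limits AlgebraicGeometry MonoidalCategory CartesianMonoidalCategory MonObj

namespace Groth.Agent.GrpSmooth19

variable {K : Type u} [Field K]

/-- A scheme of finite type over a perfect field has a smooth point if it has a reduced local ring. -/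
theorem smoothLocus_nonempty [PerfectField K] {X : Scheme.{u}} (f : X ⟶ Spec (CommRingCat.of K)) [LocallyOfFiniteType f]
    (e : X) (h : _root_.IsReduced (X.presheaf.stalk e)) : (f.smoothLocus : Set X).Nonempty := by
  haveI : IsLocallyNoetherian X := LocallyOfFiniteType.isLocallyNoetherian f
  haveI : LocallyOfFinitePresentation f := {
    finitePresentation_appLE := fun {U} hU {V} hV e =>
      haveI := IsLocallyNoetherian.component_noetherian (X := Spec (CommRingCat.of K)) ⟨U, hU⟩
      RingHom.FinitePresentation.of_finiteType.mp (f.finiteType_appLE hU hV e) }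
  let A := X.presheaf.stalk e
  obtain ⟨p, hp⟩ := (Ideal.nonempty_minimalPrimes (I := (⊥ : Ideal A)) bot_ne_top)
  haveI hpp : p.IsPrime := hp.1.1
  let Aq := Localization.AtPrime p
  haveI : Ring.KrullDimLE 0 Aq := .of_isLocalization p hp _
  haveI : _root_.IsReduced Aq :=
    isReduced_localizationPreserves p.primeCompl Aq h
  have hfield : IsField Aq := Ring.KrullDimLE.isField_of_isReduced
  obtain ⟨U, hU, heU, -⟩ := exists_isAffineOpen_mem_and_subset (X := X) (x := e) (U := ⊤) trivial
  letI : Algebra Γ(X, U) A := TopCat.Presheaf.algebra_section_stalk X.presheaf (⟨e, heU⟩ : U)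
  haveI : IsLocalization.AtPrime A (hU.primeIdealOf ⟨e, heU⟩).asIdeal := hU.isLocalization_stalk ⟨e, heU⟩
  let P : PrimeSpectrum Γ(X, U) := ⟨p.comap (algebraMap Γ(X, U) A), inferInstance⟩
  haveI : IsLocalization.AtPrime Aq P.asIdeal :=
    IsLocalization.isLocalization_isLocalization_atPrime_isLocalization
      (hU.primeIdealOf ⟨e, heU⟩).asIdeal.primeCompl Aq p
  have hy : hU.fromSpec P ∈ U := hU.range_fromSpec.le ⟨P, rfl⟩
  letI : Algebra Γ(X, U) (X.presheaf.stalk (hU.fromSpec P)) :=
    TopCat.Presheaf.algebra_section_stalk X.presheaf (⟨hU.fromSpec P, hy⟩ : U)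
  haveI : IsLocalization.AtPrime (X.presheaf.stalk (hU.fromSpec P)) P.asIdeal :=
    hU.isLocalization_stalk' P hy
  let ψ : X.presheaf.stalk (hU.fromSpec P) ≃+* Aq :=
    (IsLocalization.algEquiv P.asIdeal.primeCompl _ _).toRingEquiv
  exact ⟨hU.fromSpec P, Cartier.mem_smoothLocus_of_isField_stalk f _ (ψ.toMulEquiv.isField hfield)⟩

/-- Smoothness of a group scheme can be checked on the local ring at one point of the base change to an algebraic closure. -/
theorem smooth_of_isReduced_stalk_baseChange (G : Over (Spec (CommRingCat.of K))) [GrpObj G] [LocallyOfFiniteType G.hom]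
    (L : Type u) [Field L] [Algebra K L] [PerfectField L]
    (e : ↥(pullback G.hom (Spec.map (CommRingCat.ofHom (algebraMap K L)))))
    (h : _root_.IsReduced ((pullback G.hom (Spec.map (CommRingCat.ofHom (algebraMap K L)))).presheaf.stalk e)) :
    Smooth G.hom := by
  let φ := Spec.map (CommRingCat.ofHom (algebraMap K L))
  apply MorphismProperty.of_pullback_snd_of_descendsAlong
    (Q := @Surjective ⊓ @Flat ⊓ @QuasiCompact) (g := φ)
  · exact ⟨⟨inferInstance, inferInstance⟩, inferInstance⟩
  let G' := (Over.pullback φ).obj G
  letI : GrpObj G' := Functor.grpObjObj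
  haveI : LocallyOfFiniteType G'.hom := by dsimp [G']; infer_instance
  suffices Smooth G'.hom by exact this
  exact Cartier.smooth_of_nonempty_smoothLocus G' (smoothLocus_nonempty G'.hom e h)

/-- A reduced group scheme over a perfect field is smooth. -/
theorem smooth_of_isReduced [PerfectField K] (G : Over (Spec (CommRingCat.of K))) [GrpObj G] [LocallyOfFiniteType G.hom]
    [IsReduced G.left] : Smooth G.hom :=
  Cartier.smooth_of_nonempty_smoothLocus G
    (smoothLocus_nonempty G.hom (η[G].left (IsLocalRing.closedPoint K)) inferInstance)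

/-- A geometrically reduced group scheme is smooth. -/
theorem smooth_of_isReduced_baseChange (G : Over (Spec (CommRingCat.of K))) [GrpObj G] [LocallyOfFiniteType G.hom]
    (L : Type u) [Field L] [Algebra K L] [PerfectField L]
    [IsReduced (pullback G.hom (Spec.map (CommRingCat.ofHom (algebraMap K L))))] : Smooth G.hom := by
  let φ := Spec.map (CommRingCat.ofHom (algebraMap K L))
  obtain ⟨e, -⟩ := (pullback.fst G.hom φ).surjective (η[G].left (IsLocalRing.closedPoint K))
  exact smooth_of_isReduced_stalk_baseChange G L e inferInstance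

end Groth.Agent.GrpSmooth19
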